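import Groth.Agent.FibCrit.Props
import Groth.Agent.SmDesc.Scheme
import Groth.Agent.FibreFlat.Stalk
import Groth.Agent.LimDesc.FPCancel
import Groth.Agent.S2156

/-!
Flatness and smoothness at a point from the map of fibres.
-/

universe u

open CategoryTheory CategoryTheory.Limits AlgebraicGeometry

set_option linter.style.haveILetI false

namespace Groth.Agent.FibMapPoint

variable {X Y S : Scheme.{u}}

theorem flat_stalkMap_of_nhd {U : X.Opens} (f : X ⟶ Y) [Flat (U.ι ≫ f)] {x : X} (hx : x ∈ U) :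
    (f.stalkMap x).hom.Flat := by
  obtain ⟨p, rfl⟩ : x ∈ Set.range U.ι := by rw [Scheme.Opens.range_ι]; exact hx
  exact FibreFlat.flatAt_of_comp (FibreFlat.flatAt_of_flat U.ι p) (FibreFlat.flatAt_of_flat (U.ι ≫ f) p)

theorem flatAt_of_fibreMap (f : X ⟶ Y) (g : Y ⟶ S) [LocallyOfFinitePresentation (f ≫ g)] [LocallyOfFiniteType g]
    {s : S} (z : ↥((f ≫ g).fiber s)) (x : X) (hz : (f ≫ g).fiberι s z = x)
    (h1 : ((f ≫ g).stalkMap x).hom.Flat) (h2 : ((MoreMor.fiberMap f g s).stalkMap z).hom.Flat) :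
    (f.stalkMap x).hom.Flat := by
  subst hz
  exact ((FibCrit.pointwise f g _).1 ⟨h1, (FibCrit.fiberMap_flat_iff f g s z).1 h2⟩).2

theorem mem_smoothLocus_of_fibreMap (f : X ⟶ Y) (g : Y ⟶ S) [LocallyOfFinitePresentation f] (x : X)
    (z : ↥((f ≫ g).fiber (g (f x)))) (hz : (f ≫ g).fiberι (g (f x)) z = x)
    [LocallyOfFinitePresentation (MoreMor.fiberMap f g (g (f x)))]
    (hflat : (f.stalkMap x).hom.Flat) (h : z ∈ (MoreMor.fiberMap f g (g (f x))).smoothLocus) :
    x ∈ f.smoothLocus := by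
  have sq := FibCrit.isPullback_fiberMap f g (g (f x))
  have hQ : IsPullback (f.fiberι (f x)) (f.fiberToSpecResidueField (f x)) f (Y.fromSpecResidueField (f x)) :=
    IsPullback.of_hasPullback f (Y.fromSpecResidueField (f x))
  let m : f.fiber (f x) ⟶ (f ≫ g).fiber (g (f x)) :=
    sq.lift (f.fiberι (f x)) (f.fiberToSpecResidueField (f x) ≫ g.asFiberHom (f x))
      (by rw [Category.assoc, Scheme.Hom.asFiberHom_fiberι]; exact hQ.w)
  have hm : m ≫ (f ≫ g).fiberι (g (f x)) = f.fiberι (f x) := sq.lift_fst _ _ _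
  have hsq : IsPullback m (f.fiberToSpecResidueField (f x)) (MoreMor.fiberMap f g (g (f x)))
      (g.asFiberHom (f x)) :=
    IsPullback.of_right (by rw [hm, Scheme.Hom.asFiberHom_fiberι]; exact hQ) (sq.lift_snd _ _ _) sq
  have hmz : m (f.asFiber x) = z := by
    apply ((f ≫ g).fiberι (g (f x))).isEmbedding.injective
    rw [← Scheme.Hom.comp_apply, hm, hz]
    exact f.fiberι_asFiber x
  refine (Groth.Agent.S2156.result f x).2 ⟨hflat, ?_⟩
  exact SmDesc.preimage_smoothLocus_le hsq (show m (f.asFiber x) ∈ _ by rw [hmz]; exact h)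

end Groth.Agent.FibMapPoint
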